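import Groth.Agent.H02CA.PtGlue.Torsor

/-!
# The action on a glued torsor
-/

set_option autoImplicit false
set_option linter.style.haveILetI false
set_option linter.unusedSectionVars false
universe u

open CategoryTheory MonoidalCategory CartesianMonoidalCategory MonObj GrpObj AlgebraicGeometry TensorProduct

namespace Groth.Agent.H02CA.PtGlue

variable {R A B C : Type u} [CommRing R] [CommRing A] [Algebra R A] [CommRing B] [Algebra R B]
  [CommRing C] [Algebra R C] {G : Over (Spec (CommRingCat.of R))} [GrpObj G] {O : Type u} [CommRing O] [Algebra R O]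
  {θ : sp R O ≅ G} {r : R} {ιA : A →ₐ[R] C} {ιB : B →ₐ[R] C} (h : IsGlueData r ιA ιB) {g : sp R C ⟶ G}
  [Module.Flat R O] {E : Type u} [CommRing E] [Algebra R E] (L : LatData θ (ιA := ιA) (ιB := ιB) g E)
  {T : Type u} [CommRing T] [Algebra R T]

/-- The image of a point of the group on a side. -/
noncomputable def sd (X : Type u) [CommRing X] [Algebra R X] (p : sp R T ⟶ G) : sp R (X ⊗[R] T) ⟶ G :=
  m (inR T X) ≫ p

theorem sd_nat {X T' : Type u} [CommRing X] [Algebra R X] [CommRing T'] [Algebra R T'] (f : T →ₐ[R] T')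
    (p : sp R T ⟶ G) : sd X (m f ≫ p) = m (bar ((inR T' X).comp f)) ≫ sd X p := by
  rw [sd, sd, ← Category.assoc, ← m_comp, ← Category.assoc, ← m_comp, bar_right]

theorem sd_ext (h : IsGlueData r ιA ιB) (θ : sp R O ≅ G) {p q : sp R T ⟶ G} (hA : sd A p = sd A q)
    (hB : sd B p = sd B q) : p = q := by
  rw [← pt_coord θ p, ← pt_coord θ q, sd, sd, m_pt, m_pt] at *
  exact congrArg (pt θ) (IsGlueData.hom_ext T h ((pt_bijective θ).1 hA) ((pt_bijective θ).1 hB))

theorem exists_sd [Module.Flat R T] (h : IsGlueData r ιA ιB) (θ : sp R O ≅ G) (pA : sp R (A ⊗[R] T) ⟶ G)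
    (pB : sp R (B ⊗[R] T) ⟶ G) (hrel : m (jmap T ιA) ≫ pA = m (jmap T ιB) ≫ pB) :
    ∃ p : sp R T ⟶ G, sd A p = pA ∧ sd B p = pB := by
  obtain ⟨f, hfA, hfB⟩ := h.glueHom T (coord θ pA) (coord θ pB) (by
    rw [← coord_comp, ← coord_comp, hrel])
  exact ⟨pt θ f, by rw [sd, m_pt, hfA, pt_coord], by rw [sd, m_pt, hfB, pt_coord]⟩

theorem m_jmap_sd {X : Type u} [CommRing X] [Algebra R X] (ψ : X →ₐ[R] C) (p : sp R T ⟶ G) :
    m (jmap T ψ) ≫ sd X p = sd C p := by
  rw [sd, sd, ← Category.assoc, ← m_comp, jmap_inR]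

include h L

theorem exists_act [Module.Flat R T] (p : sp R T ⟶ G) (x : E →ₐ[R] T) :
    ∃ y : E →ₐ[R] T, L.ptA y = sd A p * L.ptA x ∧ L.ptB y = sd B p * L.ptB x :=
  L.exists_pt h _ _ (by rw [MonObj.comp_mul, MonObj.comp_mul, m_jmap_sd, m_jmap_sd, L.rel_pt, _root_.mul_assoc])

/-- The action on points. -/
noncomputable def actp [Module.Flat R T] (p : sp R T ⟶ G) (x : E →ₐ[R] T) : E →ₐ[R] T :=
  (exists_act h L p x).choose

theorem ptA_actp [Module.Flat R T] (p : sp R T ⟶ G) (x : E →ₐ[R] T) :
    L.ptA (actp h L p x) = sd A p * L.ptA x := (exists_act h L p x).choose_spec.1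

theorem ptB_actp [Module.Flat R T] (p : sp R T ⟶ G) (x : E →ₐ[R] T) :
    L.ptB (actp h L p x) = sd B p * L.ptB x := (exists_act h L p x).choose_spec.2

theorem actp_nat {T' : Type u} [CommRing T'] [Algebra R T'] [Module.Flat R T] [Module.Flat R T'] (f : T →ₐ[R] T')
    (p : sp R T ⟶ G) (x : E →ₐ[R] T) : f.comp (actp h L p x) = actp h L (m f ≫ p) (f.comp x) :=
  L.pt_ext h (by rw [L.ptA_nat, ptA_actp, ptA_actp, MonObj.comp_mul, sd_nat, L.ptA_nat])
    (by rw [L.ptB_nat, ptB_actp, ptB_actp, MonObj.comp_mul, sd_nat, L.ptB_nat])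

theorem actp_one [Module.Flat R T] (x : E →ₐ[R] T) : actp h L 1 x = x :=
  L.pt_ext h (by rw [ptA_actp, sd, MonObj.comp_one, _root_.one_mul])
    (by rw [ptB_actp, sd, MonObj.comp_one, _root_.one_mul])

theorem actp_mul [Module.Flat R T] (p q : sp R T ⟶ G) (x : E →ₐ[R] T) :
    actp h L (p * q) x = actp h L p (actp h L q x) :=
  L.pt_ext h
    (by rw [ptA_actp, ptA_actp, ptA_actp, sd, MonObj.comp_mul, ← sd, ← sd, _root_.mul_assoc])
    (by rw [ptB_actp, ptB_actp, ptB_actp, sd, MonObj.comp_mul, ← sd, ← sd, _root_.mul_assoc])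

/-- Two points of the glued scheme differ by a unique point of the group. -/
theorem exists_div [Module.Flat R T] (x y : E →ₐ[R] T) : ∃ p : sp R T ⟶ G,
    sd A p = L.ptA x * (L.ptA y)⁻¹ ∧ sd B p = L.ptB x * (L.ptB y)⁻¹ :=
  exists_sd h θ _ _ (by
    rw [MonObj.comp_mul, MonObj.comp_mul, GrpObj.comp_inv, GrpObj.comp_inv, L.rel_pt, L.rel_pt, _root_.mul_inv_rev,
      _root_.mul_assoc, mul_inv_cancel_left])

section Act

variable [Module.Flat R E]

/-- The product of the group and the glued scheme. -/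
noncomputable def gx (θ : sp R O ≅ G) (E : Type u) [CommRing E] [Algebra R E] : sp R (O ⊗[R] E) ⟶ G ⊗ sp R E :=
  lift (pt θ Algebra.TensorProduct.includeLeft) (m Algebra.TensorProduct.includeRight)

instance : IsIso (gx θ E) := by
  have e : gx θ E = prodHom R O E ≫ (θ.hom ▷ sp R E) := by
    ext1
    · rw [gx, lift_fst, Category.assoc, whiskerRight_fst, ← Category.assoc, prodHom_fst]; rfl
    · rw [gx, lift_snd, Category.assoc, whiskerRight_snd, prodHom_snd]
  rw [e]
  infer_instance

/-- The action. -/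
noncomputable def actHom : G ⊗ sp R E ⟶ sp R E :=
  inv (gx θ E) ≫
    m (actp h L (pt θ Algebra.TensorProduct.includeLeft) Algebra.TensorProduct.includeRight)

theorem lift_actHom [Module.Flat R T] (p : sp R T ⟶ G) (x : E →ₐ[R] T) :
    lift p (m x) ≫ actHom h L = m (actp h L p x) := by
  let K : O ⊗[R] E →ₐ[R] T := Algebra.TensorProduct.lift (coord θ p) x fun _ _ => Commute.all _ _
  have h1 : K.comp Algebra.TensorProduct.includeLeft = coord θ p :=
    Algebra.TensorProduct.lift_comp_includeLeft (coord θ p) x fun _ _ => Commute.all _ _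
  have h2 : K.comp Algebra.TensorProduct.includeRight = x :=
    Algebra.TensorProduct.lift_comp_includeRight (coord θ p) x fun _ _ => Commute.all _ _
  have e : lift p (m x) = m K ≫ gx θ E := by
    rw [gx, comp_lift, m_pt, h1, pt_coord, ← m_comp, h2]
  rw [e, actHom, Category.assoc, IsIso.hom_inv_id_assoc, ← m_comp, actp_nat, m_pt, h1, pt_coord, h2]

/-- The glued scheme with the action of the group. -/
noncomputable def action : AlgGrp.Action G (sp R E) where
  act := actHom h L
  one_act := by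
    rw [← cancel_epi (λ_ (sp R E)).inv, Iso.inv_hom_id, ← Category.assoc]
    have e : (λ_ (sp R E)).inv ≫ η[G] ▷ sp R E = lift (1 : sp R E ⟶ G) (m (AlgHom.id R E)) := by
      rw [m_id]
      ext1
      · rw [Category.assoc, whiskerRight_fst, lift_fst, Hom.one_def, ← Category.assoc]
        congr 1
        exact toUnit_unique _ _
      · rw [Category.assoc, whiskerRight_snd, lift_snd, leftUnitor_inv_snd]
    rw [e, lift_actHom, actp_one, m_id]
  mul_act := by
    let p₁ : sp R ((O ⊗[R] O) ⊗[R] E) ⟶ G :=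
      pt θ ((Algebra.TensorProduct.includeLeft : O ⊗[R] O →ₐ[R] _).comp Algebra.TensorProduct.includeLeft)
    let p₂ : sp R ((O ⊗[R] O) ⊗[R] E) ⟶ G :=
      pt θ ((Algebra.TensorProduct.includeLeft : O ⊗[R] O →ₐ[R] _).comp Algebra.TensorProduct.includeRight)
    let x : E →ₐ[R] (O ⊗[R] O) ⊗[R] E := Algebra.TensorProduct.includeRight
    have e : lift (lift p₁ p₂) (m x) =
        prodHom R (O ⊗[R] O) E ≫ (prodHom R O O ▷ sp R E) ≫ ((θ.hom ⊗ₘ θ.hom) ▷ sp R E) := by
      ext1
      · rw [lift_fst, Category.assoc, Category.assoc, whiskerRight_fst, ← Category.assoc (prodHom R O O ▷ _),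
          whiskerRight_fst, ← Category.assoc, ← Category.assoc, prodHom_fst]
        ext1
        · rw [lift_fst, Category.assoc, tensorHom_fst, Category.assoc, ← Category.assoc (prodHom R O O),
            prodHom_fst, ← Category.assoc, ← m_comp]
          rfl
        · rw [lift_snd, Category.assoc, tensorHom_snd, Category.assoc, ← Category.assoc (prodHom R O O),
            prodHom_snd, ← Category.assoc, ← m_comp]
          rfl
      · rw [lift_snd, Category.assoc, Category.assoc, whiskerRight_snd, whiskerRight_snd, prodHom_snd]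
    have : IsIso (lift (lift p₁ p₂) (m x)) := by rw [e]; infer_instance
    rw [← cancel_epi (lift (lift p₁ p₂) (m x)), ← Category.assoc, ← Category.assoc]
    have e1 : lift (lift p₁ p₂) (m x) ≫ μ[G] ▷ sp R E = lift (p₁ * p₂) (m x) := by
      ext1
      · rw [Category.assoc, whiskerRight_fst, lift_fst, ← Category.assoc, lift_fst, Hom.mul_def]
      · rw [Category.assoc, whiskerRight_snd, lift_snd, lift_snd]
    have e2 : lift (lift p₁ p₂) (m x) ≫ (α_ G G (sp R E)).hom = lift p₁ (lift p₂ (m x)) := by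
      apply CartesianMonoidalCategory.hom_ext
      · rw [Category.assoc, associator_hom_fst, lift_fst, ← Category.assoc, lift_fst, lift_fst]
      · apply CartesianMonoidalCategory.hom_ext
        · rw [Category.assoc, Category.assoc, associator_hom_snd_fst, ← Category.assoc, lift_fst, lift_snd,
            lift_snd, lift_fst]
        · rw [Category.assoc, Category.assoc, associator_hom_snd_snd, lift_snd, lift_snd, lift_snd]
    rw [e1, lift_actHom, actp_mul, e2, ← Category.assoc]
    rw [lift_whiskerLeft, lift_actHom, lift_actHom]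

/-- The glued scheme is a pseudo-torsor. -/
theorem isPseudoTorsorSch_action : NonAbH1.IsPseudoTorsorSch (action h L) := by
  let e₁ : E →ₐ[R] E ⊗[R] E := Algebra.TensorProduct.includeLeft
  let e₂ : E →ₐ[R] E ⊗[R] E := Algebra.TensorProduct.includeRight
  obtain ⟨d, hdA, hdB⟩ := exists_div h L e₁ e₂
  let N : sp R E ⊗ sp R E ⟶ G ⊗ sp R E := inv (prodHom R E E) ≫ lift d (m e₂)
  refine ⟨N, ?_, ?_⟩
  · rw [← cancel_epi (gx θ E), Category.comp_id]
    let a₁ := actp h L (pt θ Algebra.TensorProduct.includeLeft) (Algebra.TensorProduct.includeRight : E →ₐ[R] O ⊗[R] E)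
    let K : E ⊗[R] E →ₐ[R] O ⊗[R] E :=
      Algebra.TensorProduct.lift a₁ Algebra.TensorProduct.includeRight fun _ _ => Commute.all _ _
    have hK₁ : K.comp e₁ = a₁ := Algebra.TensorProduct.lift_comp_includeLeft a₁
      Algebra.TensorProduct.includeRight fun _ _ => Commute.all _ _
    have hK₂ : K.comp e₂ = Algebra.TensorProduct.includeRight := Algebra.TensorProduct.lift_comp_includeRight a₁
      Algebra.TensorProduct.includeRight fun _ _ => Commute.all _ _
    have e : gx θ E ≫ lift (action h L).act (snd G (sp R E)) = m K ≫ prodHom R E E := by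
      rw [comp_lift, prodHom, comp_lift]
      congr 1
      · rw [← m_comp, hK₁]; exact lift_actHom h L _ _
      · rw [gx, lift_snd, ← m_comp, hK₂]
    have hd : m K ≫ d = pt θ Algebra.TensorProduct.includeLeft := by
      refine sd_ext h θ ?_ ?_
      · rw [sd_nat, hdA, MonObj.comp_mul, GrpObj.comp_inv, ← L.ptA_nat, ← L.ptA_nat, hK₁, hK₂, ptA_actp,
          mul_inv_cancel_right]
      · rw [sd_nat, hdB, MonObj.comp_mul, GrpObj.comp_inv, ← L.ptB_nat, ← L.ptB_nat, hK₁, hK₂, ptB_actp,
          mul_inv_cancel_right]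
    rw [← Category.assoc, e, Category.assoc, IsIso.hom_inv_id_assoc, comp_lift, hd, ← m_comp, hK₂, gx]
  · rw [← cancel_epi (prodHom R E E), Category.comp_id, ← Category.assoc, IsIso.hom_inv_id_assoc, comp_lift,
      lift_snd, prodHom]
    congr 1
    show lift d (m e₂) ≫ actHom h L = m e₁
    rw [lift_actHom]
    congr 1
    exact L.pt_ext h (by rw [ptA_actp, hdA, inv_mul_cancel_right]) (by rw [ptB_actp, hdB, inv_mul_cancel_right])

end Act

end Groth.Agent.H02CA.PtGlue
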