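import Groth.Agent.H02CA.PtGlue.Glue

/-!
# A Noetherian domain is glued from its localization and its completion at an element
-/

set_option autoImplicit false
set_option linter.style.haveILetI false
universe u

open TensorProduct

namespace Groth.Agent.H02CA.PtGlue

variable {R : Type u} [CommRing R] (r : R)

/-- The completion along an element. -/
abbrev Cpl : Type u := AdicCompletion (Ideal.span {r}) R

/-- The punctured completion. -/
abbrev PCpl : Type u := Localization.Away (algebraMap R (Cpl r) r)

theorem isUnit_PCpl : IsUnit (algebraMap R (PCpl r) r) := by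
  rw [IsScalarTower.algebraMap_apply R (Cpl r) (PCpl r)]
  exact IsLocalization.Away.algebraMap_isUnit _

/-- The map from the puncture to the punctured completion. -/
noncomputable def toPCpl : Localization.Away r →ₐ[R] PCpl r where
  __ := IsLocalization.Away.lift r (g := algebraMap R (PCpl r)) (isUnit_PCpl r)
  commutes' x := IsLocalization.Away.lift_eq r (isUnit_PCpl r) x

/-- The map from the completion to the punctured completion. -/
noncomputable def ofCpl : Cpl r →ₐ[R] PCpl r := IsScalarTower.toAlgHom R (Cpl r) (PCpl r)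

theorem exists_of_eval {n : ℕ} {b : Cpl r} (hb : AdicCompletion.eval (Ideal.span {r}) R n b = 0) :
    ∃ b' : Cpl r, b = r ^ n • b' := by
  have h : b ∈ (Ideal.span {r}) ^ n • (⊤ : Submodule R (Cpl r)) := by
    rw [AdicCompletion.pow_smul_top_eq_ker_eval (Submodule.fg_span_singleton r)]
    exact hb
  rw [Ideal.span_singleton_pow, Submodule.ideal_span_singleton_smul, Submodule.mem_smul_pointwise_iff_exists] at h
  obtain ⟨b', -, rfl⟩ := h
  exact ⟨b', rfl⟩

theorem exists_approx (b : Cpl r) (n : ℕ) : ∃ (x : R) (b' : Cpl r), b = algebraMap R (Cpl r) x + r ^ n • b' := by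
  obtain ⟨x, hx⟩ := Submodule.Quotient.mk_surjective _ (AdicCompletion.eval (Ideal.span {r}) R n b)
  obtain ⟨b', hb'⟩ := exists_of_eval r (n := n) (b := b - algebraMap R (Cpl r) x) (by
    rw [map_sub, ← hx, sub_eq_zero]
    rfl)
  exact ⟨x, b', by rw [← hb']; abel⟩

theorem exists_of_algebraMap_eq {n : ℕ} {x : R} {b : Cpl r} (h : algebraMap R (Cpl r) x = r ^ n • b) :
    ∃ y, x = r ^ n * y := by
  have h1 := congrArg (AdicCompletion.eval (Ideal.span {r}) R n) h
  rw [map_smul] at h1
  obtain ⟨z, hz⟩ := Submodule.Quotient.mk_surjective _ (AdicCompletion.eval (Ideal.span {r}) R n b)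
  rw [← hz, ← Submodule.Quotient.mk_smul] at h1
  have h2 := (Submodule.Quotient.eq _).1 ((show Submodule.Quotient.mk x = _ from h1))
  rw [Ideal.span_singleton_pow, smul_eq_mul (Ideal.span {r ^ n}) (⊤ : Ideal R), Ideal.mul_top,
    Ideal.mem_span_singleton] at h2
  obtain ⟨w, hw⟩ := h2
  exact ⟨z + w, by rw [mul_add, ← hw, smul_eq_mul]; ring⟩

variable [IsNoetherianRing R] [IsDomain R]

theorem isGlueData (hr : r ≠ 0) : IsGlueData r (toPCpl r) (ofCpl r) := by
  haveI hB : Module.Flat R (Cpl r) := AdicCompletion.flat_of_isNoetherian _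
  have hreg : ∀ n : ℕ, Function.Injective fun b : Cpl r => r ^ n • b := fun n => by
    have h0 : Function.Injective ((r ^ n) • LinearMap.id : R →ₗ[R] R) := fun a b e =>
      mul_left_cancel₀ (pow_ne_zero n hr) e
    have h1 := Module.Flat.lTensor_preserves_injective_linearMap (M := Cpl r) _ h0
    intro a b e
    have h2 := @h1 (a ⊗ₜ[R] 1) (b ⊗ₜ[R] 1) (by
      show a ⊗ₜ[R] (r ^ n • (1 : R)) = b ⊗ₜ[R] (r ^ n • (1 : R))
      rw [TensorProduct.tmul_smul, TensorProduct.tmul_smul, TensorProduct.smul_tmul', TensorProduct.smul_tmul']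
      exact congrArg (· ⊗ₜ[R] (1 : R)) e)
    simpa using congrArg (TensorProduct.rid R (Cpl r)) h2
  have hnzd : Submonoid.powers (algebraMap R (Cpl r) r) ≤ nonZeroDivisors (Cpl r) := by
    rintro _ ⟨n, rfl⟩
    refine mem_nonZeroDivisors_iff_right.2 fun b hb => hreg n ?_
    show r ^ n • b = r ^ n • 0
    rw [smul_zero, Algebra.smul_def, map_pow, mul_comm]
    exact hb
  have hdenA : ∀ a : Localization.Away r, ∃ (n : ℕ) (x : R), r ^ n • a = algebraMap R _ x := fun a => by
    obtain ⟨n, x, hx⟩ := IsLocalization.Away.surj r a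
    exact ⟨n, x, by rw [Algebra.smul_def, map_pow, mul_comm, hx]⟩
  have hdenC : ∀ c : PCpl r, ∃ (n : ℕ) (b : Cpl r), r ^ n • c = ofCpl r b := fun c => by
    obtain ⟨n, b, hb⟩ := IsLocalization.Away.surj (algebraMap R (Cpl r) r) c
    refine ⟨n, b, ?_⟩
    rw [Algebra.smul_def, map_pow, mul_comm, IsScalarTower.algebraMap_apply R (Cpl r) (PCpl r)]
    exact hb
  have hinjB : Function.Injective (ofCpl r) := IsLocalization.injective _ hnzd
  haveI : Module.Flat (Cpl r) (PCpl r) := IsLocalization.flat _ (Submonoid.powers (algebraMap R (Cpl r) r))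
  have hcancA : ∀ (n : ℕ) (a a' : Localization.Away r), r ^ n • a = r ^ n • a' → a = a' := fun n a a' e => by
    rw [Algebra.smul_def, Algebra.smul_def, map_pow] at e
    exact ((IsLocalization.Away.algebraMap_isUnit r).pow n).mul_left_cancel e
  refine
    { flatA := IsLocalization.flat _ (Submonoid.powers r)
      flatB := hB
      flatC := Module.Flat.trans R (Cpl r) (PCpl r)
      unitA := IsLocalization.Away.algebraMap_isUnit r
      injA := IsLocalization.injective _ (powers_le_nonZeroDivisors_of_noZeroDivisors hr)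
      injB := hinjB
      exact := fun a b e => ?_
      dec := fun c N => ?_
      denA := hdenA
      denC := hdenC }
  · obtain ⟨n, x, hx⟩ := hdenA a
    have h1 : ofCpl r (algebraMap R _ x) = ofCpl r (r ^ n • b) := by
      rw [map_smul, ← e, ← map_smul, hx, AlgHom.commutes, AlgHom.commutes]
    obtain ⟨y, hy⟩ := exists_of_algebraMap_eq r (hinjB h1)
    refine ⟨y, hcancA n _ _ ?_, hreg n ?_⟩
    · rw [hx, hy, Algebra.smul_def, map_mul]
    · show r ^ n • _ = r ^ n • b
      rw [← hinjB h1, hy, Algebra.smul_def, map_mul]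
  · obtain ⟨n, b, hb⟩ := hdenC c
    obtain ⟨x, b', hbx⟩ := exists_approx r b (N + n)
    obtain ⟨v, hv⟩ := (IsLocalization.Away.algebraMap_isUnit (S := Localization.Away r) r).pow n
    refine ⟨↑v⁻¹ * algebraMap R _ x, b', ?_⟩
    refine ((isUnit_PCpl r).pow n).mul_left_cancel ?_
    have e1 : algebraMap R (PCpl r) r ^ n * toPCpl r (↑v⁻¹ * algebraMap R _ x) = algebraMap R _ x := by
      rw [show algebraMap R (PCpl r) r ^ n = toPCpl r (algebraMap R (Localization.Away r) r ^ n) by
        rw [map_pow, AlgHom.commutes], ← map_mul, ← hv, ← mul_assoc, v.mul_inv, one_mul, AlgHom.commutes]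
    rw [mul_add, e1]
    rw [Algebra.smul_def, map_pow] at hb
    rw [hb, hbx, map_add, AlgHom.commutes, map_smul, Algebra.smul_def, Algebra.smul_def, map_pow, map_pow, pow_add]
    ring

end Groth.Agent.H02CA.PtGlue
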