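import Mathlib

/-!
# Gluing data for a ring: the punctured and the completed side
-/

set_option autoImplicit false
universe u

open TensorProduct

namespace Groth.Agent.H02CA.PtGlue

variable {R A B C : Type u} [CommRing R] [CommRing A] [Algebra R A] [CommRing B] [Algebra R B]
  [CommRing C] [Algebra R C]

/-- `R` is glued from `A` and `B` along `C`; `A` and `C` invert `r`. -/
structure IsGlueData (r : R) (ιA : A →ₐ[R] C) (ιB : B →ₐ[R] C) : Prop where
  flatA : Module.Flat R A
  flatB : Module.Flat R B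
  flatC : Module.Flat R C
  unitA : IsUnit (algebraMap R A r)
  injA : Function.Injective (algebraMap R A)
  injB : Function.Injective ιB
  exact : ∀ a b, ιA a = ιB b → ∃ x, algebraMap R A x = a ∧ algebraMap R B x = b
  dec : ∀ (c : C) (N : ℕ), ∃ a b, c = ιA a + r ^ N • ιB b
  denA : ∀ a : A, ∃ (n : ℕ) (x : R), r ^ n • a = algebraMap R A x
  denC : ∀ c : C, ∃ (n : ℕ) (b : B), r ^ n • c = ιB b

theorem flat_prod {M M' : Type u} [AddCommGroup M] [Module R M] [AddCommGroup M'] [Module R M'] [Module.Flat R M]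
    [Module.Flat R M'] : Module.Flat R (M × M') := by
  refine Module.Flat.iff_lTensor_preserves_injective_linearMap.2 fun N N' _ _ _ _ f hf => ?_
  have key : (TensorProduct.prodLeft R R M M' N').toLinearMap ∘ₗ f.lTensor (M × M') =
      ((f.lTensor M).prodMap (f.lTensor M')) ∘ₗ (TensorProduct.prodLeft R R M M' N).toLinearMap :=
    TensorProduct.ext' fun p n => rfl
  intro x y hxy
  refine (TensorProduct.prodLeft R R M M' N).injective ?_
  have e := (LinearMap.congr_fun key x).symm.trans
    ((congrArg (TensorProduct.prodLeft R R M M' N') hxy).trans (LinearMap.congr_fun key y))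
  exact Prod.ext (Module.Flat.lTensor_preserves_injective_linearMap f hf (congrArg Prod.fst e))
    (Module.Flat.lTensor_preserves_injective_linearMap f hf (congrArg Prod.snd e))

namespace IsGlueData

variable {r : R} {ιA : A →ₐ[R] C} {ιB : B →ₐ[R] C} (h : IsGlueData r ιA ιB)

include h in
theorem faithfullyFlat : Module.FaithfullyFlat R (A × B) := by
  haveI := h.flatA
  haveI := h.flatB
  haveI : Module.Flat R (A × B) := flat_prod
  refine ⟨fun m hm htop => ?_⟩
  have hA : ∀ z ∈ m • (⊤ : Submodule R (A × B)), z.1 ∈ m.map (algebraMap R A) ∧ z.2 ∈ m.map (algebraMap R B) := by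
    intro z hz
    refine Submodule.smul_induction_on hz (fun x hx w _ => ⟨?_, ?_⟩) fun x y hx hy => ⟨add_mem hx.1 hy.1, add_mem hx.2 hy.2⟩
    · show x • w.1 ∈ _
      rw [Algebra.smul_def]
      exact Ideal.mul_mem_right _ _ (Ideal.mem_map_of_mem _ hx)
    · show x • w.2 ∈ _
      rw [Algebra.smul_def]
      exact Ideal.mul_mem_right _ _ (Ideal.mem_map_of_mem _ hx)
  have h1 := hA ((1 : A), (1 : B)) (htop.ge trivial)
  by_cases hr : r ∈ m
  · have key : ∀ b ∈ m.map (algebraMap R B), ∃ y ∈ m, ∃ b', b = algebraMap R B y + r • b' := by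
      intro b hb
      refine Submodule.span_induction (p := fun b _ => ∃ y ∈ m, ∃ b', b = algebraMap R B y + r • b') ?_ ?_ ?_ ?_ hb
      · rintro _ ⟨y, hy, rfl⟩
        exact ⟨y, hy, 0, by simp⟩
      · exact ⟨0, zero_mem _, 0, by simp⟩
      · rintro _ _ _ _ ⟨y, hy, b, rfl⟩ ⟨y', hy', b', rfl⟩
        exact ⟨y + y', add_mem hy hy', b + b', by rw [map_add, smul_add]; abel⟩
      · rintro c _ _ ⟨y, hy, b, rfl⟩
        obtain ⟨a, d, hd⟩ := h.dec (ιB c) 1
        rw [pow_one, ← map_smul] at hd
        obtain ⟨x, -, hx⟩ := h.exact a (c - r • d) (by rw [map_sub, hd]; abel)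
        refine ⟨x * y, Ideal.mul_mem_left _ _ hy, d * algebraMap R B y + c * b, ?_⟩
        rw [smul_eq_mul, map_mul, hx, smul_add, Algebra.smul_def, Algebra.smul_def, Algebra.smul_def,
          Algebra.smul_def]
        ring
    obtain ⟨y, hy, b', hb'⟩ := key 1 h1.2
    obtain ⟨u, hu⟩ := h.unitA
    obtain ⟨x, hx, -⟩ := h.exact (algebraMap R A (1 - y) * ↑u⁻¹) b' (by
      have e1 : ιB (algebraMap R B r) * ιB b' = ιB (algebraMap R B (1 - y)) := by
        rw [← map_mul, ← Algebra.smul_def, map_sub, map_one]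
        exact congrArg ιB (eq_sub_of_add_eq' hb'.symm)
      rw [AlgHom.commutes, AlgHom.commutes] at e1
      rw [map_mul, AlgHom.commutes, ← e1, show algebraMap R C r = ιA (algebraMap R A r) from (ιA.commutes r).symm,
        ← hu, mul_right_comm, ← map_mul, u.mul_inv, map_one, one_mul])
    have e : r * x = 1 - y := h.injA (by
      rw [map_mul, hx, ← hu, mul_comm (algebraMap R A (1 - y)), ← mul_assoc, u.mul_inv, one_mul])
    exact hm.ne_top (Ideal.eq_top_iff_one _ |>.2 (by
      have e2 : (1 : R) = r * x + y := by rw [e]; ring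
      rw [e2]
      exact add_mem (Ideal.mul_mem_right _ _ hr) hy))
  · obtain ⟨z, hz⟩ := hm.exists_inv hr
    obtain ⟨i, hi, hzi⟩ := hz
    have : ∀ a ∈ m.map (algebraMap R A), ∃ (n : ℕ) (y : R), y ∈ m ∧ r ^ n • a = algebraMap R A y := by
      intro a ha
      refine Submodule.span_induction (p := fun a _ => ∃ (n : ℕ) (y : R), y ∈ m ∧ r ^ n • a = algebraMap R A y) ?_ ?_ ?_ ?_ ha
      · rintro _ ⟨y, hy, rfl⟩
        exact ⟨0, y, hy, by simp⟩
      · exact ⟨0, 0, zero_mem _, by simp⟩
      · rintro a a' _ _ ⟨n, y, hy, e⟩ ⟨n', y', hy', e'⟩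
        refine ⟨n + n', r ^ n' * y + r ^ n * y', add_mem (Ideal.mul_mem_left _ _ hy) (Ideal.mul_mem_left _ _ hy'), ?_⟩
        rw [map_add, map_mul, map_mul, ← e, ← e', smul_add, pow_add]
        simp only [Algebra.smul_def, map_mul]
        ring
      · rintro c a _ ⟨n, y, hy, e⟩
        obtain ⟨k, x, hk⟩ := h.denA c
        refine ⟨k + n, x * y, Ideal.mul_mem_left _ _ hy, ?_⟩
        rw [map_mul, ← hk, ← e, pow_add]
        rw [smul_eq_mul, Algebra.smul_def, Algebra.smul_def, Algebra.smul_def, map_mul]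
        ring
    obtain ⟨n, y, hy, e⟩ := this 1 h1.1
    have : r ^ n = y := h.injA (by rw [← e, Algebra.smul_def, mul_one])
    exact hr (hm.isPrime.mem_of_pow_mem n (this ▸ hy))

include h in
/-- Base change to the two sides detects elements of every module. -/
theorem joint_injective (M : Type u) [AddCommGroup M] [Module R M] (x : M)
    (hA : (1 : A) ⊗ₜ[R] x = 0) (hB : (1 : B) ⊗ₜ[R] x = 0) : x = 0 := by
  haveI := h.faithfullyFlat
  refine Module.FaithfullyFlat.tensorProduct_mk_injective (A := R) (B := A × B) M ?_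
  refine (TensorProduct.prodLeft R R A B M).injective ?_
  show TensorProduct.prodLeft R R A B M ((1 : A × B) ⊗ₜ[R] x) = TensorProduct.prodLeft R R A B M _
  rw [map_zero, show ((1 : A × B)) = ((1 : A), (1 : B)) from rfl, TensorProduct.prodLeft_tmul, hA, hB, map_zero]
  rfl

variable (ιA ιB) in
/-- The difference map. -/
noncomputable def diff : (A × B) →ₗ[R] C := LinearMap.coprod ιA.toLinearMap (-ιB.toLinearMap)

include h in
theorem exact_diff : Function.Exact (Algebra.linearMap R (A × B)) (diff ιA ιB) := by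
  rintro ⟨a, b⟩
  show ιA a + -ιB b = 0 ↔ _
  rw [← sub_eq_add_neg, sub_eq_zero]
  refine ⟨fun e => ?_, ?_⟩
  · obtain ⟨x, hxa, hxb⟩ := h.exact a b e
    exact ⟨x, Prod.ext hxa hxb⟩
  · rintro ⟨x, hx⟩
    rw [show a = algebraMap R A x from (congrArg Prod.fst hx).symm, show b = algebraMap R B x from (congrArg Prod.snd hx).symm]
    exact (ιA.commutes x).trans (ιB.commutes x).symm

variable {T : Type u} [AddCommGroup T] [Module R T]

include h in
/-- Elements of flat modules are glued. -/
theorem glue [Module.Flat R T] (x : A ⊗[R] T) (y : B ⊗[R] T)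
    (e : ιA.toLinearMap.rTensor T x = ιB.toLinearMap.rTensor T y) :
    ∃ t : T, (1 : A) ⊗ₜ[R] t = x ∧ (1 : B) ⊗ₜ[R] t = y := by
  let w : (A × B) ⊗[R] T := (LinearMap.inl R A B).rTensor T x + (LinearMap.inr R A B).rTensor T y
  have hw : (diff ιA ιB).rTensor T w = 0 := by
    rw [map_add, ← LinearMap.rTensor_comp_apply, ← LinearMap.rTensor_comp_apply, diff, LinearMap.coprod_inl,
      LinearMap.coprod_inr, LinearMap.rTensor_neg, LinearMap.neg_apply, e, add_neg_cancel]
  obtain ⟨t', ht'⟩ := (Module.Flat.rTensor_exact T h.exact_diff w).1 hw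
  have e1 : ∀ t' : R ⊗[R] T, (LinearMap.fst R A B).rTensor T ((Algebra.linearMap R (A × B)).rTensor T t') =
      (1 : A) ⊗ₜ[R] (TensorProduct.lid R T t') := fun t' => by
    induction t' using TensorProduct.induction_on with
    | zero => simp
    | tmul c t => simp [TensorProduct.tmul_smul, TensorProduct.smul_tmul', Algebra.smul_def]
    | add a b ha hb => simp only [map_add, ha, hb, TensorProduct.tmul_add]
  have e2 : ∀ t' : R ⊗[R] T, (LinearMap.snd R A B).rTensor T ((Algebra.linearMap R (A × B)).rTensor T t') =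
      (1 : B) ⊗ₜ[R] (TensorProduct.lid R T t') := fun t' => by
    induction t' using TensorProduct.induction_on with
    | zero => simp
    | tmul c t => simp [TensorProduct.tmul_smul, TensorProduct.smul_tmul', Algebra.smul_def]
    | add a b ha hb => simp only [map_add, ha, hb, TensorProduct.tmul_add]
  refine ⟨TensorProduct.lid R T t', ?_, ?_⟩
  · rw [← e1, ht', map_add, ← LinearMap.rTensor_comp_apply, ← LinearMap.rTensor_comp_apply]
    simp [LinearMap.fst_comp_inr]
  · rw [← e2, ht', map_add, ← LinearMap.rTensor_comp_apply, ← LinearMap.rTensor_comp_apply]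
    simp [LinearMap.snd_comp_inl]

end IsGlueData

section Alg

variable {r : R} {ιA : A →ₐ[R] C} {ιB : B →ₐ[R] C}

variable (T : Type u) [CommRing T] [Algebra R T]

/-- Base change along the map to the overlap. -/
noncomputable def jmap {X : Type u} [CommRing X] [Algebra R X] (ι : X →ₐ[R] C) : X ⊗[R] T →ₐ[R] C ⊗[R] T :=
  Algebra.TensorProduct.map ι (AlgHom.id R T)

theorem jmap_eq {X : Type u} [CommRing X] [Algebra R X] (ι : X →ₐ[R] C) (x : X ⊗[R] T) :
    jmap T ι x = ι.toLinearMap.rTensor T x := by
  induction x using TensorProduct.induction_on with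
  | zero => simp
  | tmul a t => simp [jmap]
  | add a b ha hb => simp [map_add, ha, hb]

/-- The inclusion into a base change. -/
noncomputable abbrev inR (X : Type u) [CommRing X] [Algebra R X] : T →ₐ[R] X ⊗[R] T :=
  Algebra.TensorProduct.includeRight

theorem IsGlueData.hom_ext (h : IsGlueData r ιA ιB) {D : Type u} [CommRing D] [Algebra R D] {f g : D →ₐ[R] T}
    (hA : (inR T A).comp f = (inR T A).comp g) (hB : (inR T B).comp f = (inR T B).comp g) : f = g :=
  AlgHom.ext fun d => sub_eq_zero.1 (h.joint_injective T _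
    (by rw [TensorProduct.tmul_sub]; exact sub_eq_zero.2 congr($hA d))
    (by rw [TensorProduct.tmul_sub]; exact sub_eq_zero.2 congr($hB d)))

/-- Algebra maps into flat algebras are glued. -/
theorem IsGlueData.glueHom (h : IsGlueData r ιA ιB) [Module.Flat R T] {D : Type u} [CommRing D] [Algebra R D]
    (f : D →ₐ[R] A ⊗[R] T) (g : D →ₐ[R] B ⊗[R] T) (e : (jmap T ιA).comp f = (jmap T ιB).comp g) :
    ∃ t : D →ₐ[R] T, (inR T A).comp t = f ∧ (inR T B).comp t = g := by
  have hex : ∀ d, ∃ t : T, (1 : A) ⊗ₜ[R] t = f d ∧ (1 : B) ⊗ₜ[R] t = g d := fun d =>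
    h.glue (f d) (g d) ((jmap_eq T ιA _).symm.trans (congr($e d).trans (jmap_eq T ιB _)))
  choose t htA htB using hex
  have huniq : ∀ d t', (1 : A) ⊗ₜ[R] t' = f d → (1 : B) ⊗ₜ[R] t' = g d → t d = t' := fun d t' h1 h2 =>
    sub_eq_zero.1 (h.joint_injective T _ (by rw [TensorProduct.tmul_sub, htA, h1, sub_self])
      (by rw [TensorProduct.tmul_sub, htB, h2, sub_self]))
  refine ⟨{ toFun := t
            map_one' := huniq 1 1 (by rw [map_one]; rfl) (by rw [map_one]; rfl)
            map_mul' := fun a b => huniq _ _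
              (by rw [map_mul, ← htA, ← htA, Algebra.TensorProduct.tmul_mul_tmul, mul_one])
              (by rw [map_mul, ← htB, ← htB, Algebra.TensorProduct.tmul_mul_tmul, mul_one])
            map_zero' := huniq 0 0 (by rw [map_zero, TensorProduct.tmul_zero]) (by rw [map_zero, TensorProduct.tmul_zero])
            map_add' := fun a b => huniq _ _ (by rw [map_add, TensorProduct.tmul_add, htA, htA])
              (by rw [map_add, TensorProduct.tmul_add, htB, htB])
            commutes' := fun c => huniq _ _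
              (by rw [AlgHom.commutes]; exact (inR T A).commutes c)
              (by rw [AlgHom.commutes]; exact (inR T B).commutes c) }, AlgHom.ext htA, AlgHom.ext htB⟩

end Alg

end Groth.Agent.H02CA.PtGlue
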