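import Mathlib

/-!
# Affine points of group schemes over an affine base
-/

set_option autoImplicit false
universe u

open CategoryTheory CategoryTheory.Limits MonoidalCategory CartesianMonoidalCategory AlgebraicGeometry TensorProduct

namespace Groth.Agent.H02CA.PtGlue

variable (R : Type u) [CommRing R]

/-- `Spec T` over `Spec R`. -/
noncomputable abbrev sp (T : Type u) [CommRing T] [Algebra R T] : Over (Spec (CommRingCat.of R)) :=
  Over.mk (Spec.map (CommRingCat.ofHom (algebraMap R T)))

variable {R} {A B T : Type u} [CommRing A] [Algebra R A] [CommRing B] [Algebra R B] [CommRing T] [Algebra R T]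

/-- The morphism of a map of algebras. -/
noncomputable def m (f : A →ₐ[R] B) : sp R B ⟶ sp R A :=
  Over.homMk (Spec.map (CommRingCat.ofHom f.toRingHom)) (by
    show Spec.map _ ≫ Spec.map _ = _
    rw [← Spec.map_comp, ← CommRingCat.ofHom_comp]
    congr 2
    exact RingHom.ext f.commutes)

theorem m_left (f : A →ₐ[R] B) : (m f).left = Spec.map (CommRingCat.ofHom f.toRingHom) := rfl

theorem m_id : m (AlgHom.id R A) = 𝟙 _ := Over.OverMorphism.ext (Spec.map_id _)

theorem m_comp (g : B →ₐ[R] T) (f : A →ₐ[R] B) : m (g.comp f) = m g ≫ m f :=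
  Over.OverMorphism.ext ((congrArg Spec.map (CommRingCat.ofHom_comp f.toRingHom g.toRingHom)).trans
    (Spec.map_comp _ _))

theorem m_injective : Function.Injective (m : (A →ₐ[R] B) → _) := fun f g h =>
  AlgHom.ext fun a => congr($(Spec.map_injective (congrArg CommaMorphism.left h)) a)

theorem m_surjective : Function.Surjective (m : (A →ₐ[R] B) → _) := fun φ => by
  obtain ⟨ψ, hψ⟩ := Spec.map_surjective φ.left
  have hc : ψ.hom.comp (algebraMap R A) = algebraMap R B := by
    have h : Spec.map (CommRingCat.ofHom (algebraMap R A) ≫ ψ) =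
        Spec.map (CommRingCat.ofHom (algebraMap R B)) := by
      rw [Spec.map_comp, hψ]
      exact Over.w φ
    exact congrArg CommRingCat.Hom.hom (Spec.map_injective h)
  exact ⟨⟨ψ.hom, fun r => congr($hc r)⟩, Over.OverMorphism.ext hψ⟩

variable (R A B) in
/-- The product of affine schemes is affine. -/
noncomputable def prodHom : sp R (A ⊗[R] B) ⟶ sp R A ⊗ sp R B :=
  lift (m Algebra.TensorProduct.includeLeft) (m Algebra.TensorProduct.includeRight)

instance isIso_prodHom : IsIso (prodHom R A B) := by
  haveI : IsIso (prodHom R A B).left := by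
    have h : (prodHom R A B).left = (pullbackSpecIso R A B).inv := by
      apply pullback.hom_ext
      · refine Eq.trans ?_ (pullbackSpecIso_inv_fst R A B).symm
        exact congrArg CommaMorphism.left (lift_fst (m (Algebra.TensorProduct.includeLeft : A →ₐ[R] A ⊗[R] B))
          (m (Algebra.TensorProduct.includeRight : B →ₐ[R] A ⊗[R] B)))
      · refine Eq.trans ?_ (pullbackSpecIso_inv_snd R A B).symm
        exact congrArg CommaMorphism.left (lift_snd (m (Algebra.TensorProduct.includeLeft : A →ₐ[R] A ⊗[R] B))
          (m (Algebra.TensorProduct.includeRight : B →ₐ[R] A ⊗[R] B)))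
    rw [h]
    infer_instance
  haveI : IsIso ((Over.forget _).map (prodHom R A B)) := inferInstanceAs (IsIso (prodHom R A B).left)
  exact isIso_of_reflects_iso _ (Over.forget _)

theorem prodHom_fst : prodHom R A B ≫ fst _ _ = m Algebra.TensorProduct.includeLeft := lift_fst _ _

theorem prodHom_snd : prodHom R A B ≫ snd _ _ = m Algebra.TensorProduct.includeRight := lift_snd _ _

section Points

variable {O : Type u} [CommRing O] [Algebra R O] {G : Over (Spec (CommRingCat.of R))} (θ : sp R O ≅ G)

/-- The point of a map out of the coordinate ring. -/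
noncomputable def pt (f : O →ₐ[R] T) : sp R T ⟶ G := m f ≫ θ.hom

theorem pt_bijective : Function.Bijective (pt θ : (O →ₐ[R] T) → _) := by
  refine ⟨fun f g h => m_injective ((cancel_mono θ.hom).1 h), fun x => ?_⟩
  obtain ⟨f, hf⟩ := m_surjective (x ≫ θ.inv)
  exact ⟨f, by rw [pt, hf, Category.assoc, θ.inv_hom_id, Category.comp_id]⟩

/-- The map out of the coordinate ring of a point. -/
noncomputable def coord (x : sp R T ⟶ G) : O →ₐ[R] T := (Equiv.ofBijective _ (pt_bijective θ)).symm x

theorem pt_coord (x : sp R T ⟶ G) : pt θ (coord θ x) = x := (Equiv.ofBijective _ (pt_bijective θ)).apply_symm_apply x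

theorem coord_pt (f : O →ₐ[R] T) : coord θ (pt θ f) = f := (Equiv.ofBijective _ (pt_bijective θ)).symm_apply_apply f

theorem m_pt (h : T →ₐ[R] A) (f : O →ₐ[R] T) : m h ≫ pt θ f = pt θ (h.comp f) := by
  rw [pt, pt, m_comp, Category.assoc]

theorem coord_comp (h : T →ₐ[R] A) (x : sp R T ⟶ G) : coord θ (m h ≫ x) = h.comp (coord θ x) := by
  conv_lhs => rw [← pt_coord θ x, m_pt, coord_pt]

end Points

end Groth.Agent.H02CA.PtGlue
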