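import Groth.Agent.H02CA.PtGlue.Glue
import Groth.Agent.H02CA.PtGlue.Pts

/-!
# The glued algebra of a twist of a group scheme
-/

set_option autoImplicit false
set_option linter.style.haveILetI false
universe u

open CategoryTheory MonoidalCategory CartesianMonoidalCategory AlgebraicGeometry TensorProduct

namespace Groth.Agent.H02CA.PtGlue

variable {R A B C : Type u} [CommRing R] [CommRing A] [Algebra R A] [CommRing B] [Algebra R B]
  [CommRing C] [Algebra R C]

/-- Extend a map into a base change to the base change of its source. -/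
noncomputable def bar {X D T : Type u} [CommRing X] [Algebra R X] [CommRing D] [Algebra R D] [CommRing T] [Algebra R T]
    (f : D →ₐ[R] X ⊗[R] T) : X ⊗[R] D →ₐ[R] X ⊗[R] T :=
  Algebra.TensorProduct.lift Algebra.TensorProduct.includeLeft f fun _ _ => Commute.all _ _

section Bar

variable {X D T : Type u} [CommRing X] [Algebra R X] [CommRing D] [Algebra R D] [CommRing T] [Algebra R T]
  (f : D →ₐ[R] X ⊗[R] T)

theorem bar_left : (bar f).comp Algebra.TensorProduct.includeLeft = Algebra.TensorProduct.includeLeft :=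
  Algebra.TensorProduct.lift_comp_includeLeft Algebra.TensorProduct.includeLeft f fun _ _ => Commute.all _ _

theorem bar_right : (bar f).comp (inR D X) = f :=
  Algebra.TensorProduct.lift_comp_includeRight Algebra.TensorProduct.includeLeft f fun _ _ => Commute.all _ _

theorem bar_tmul (x : X) (d : D) : bar f (x ⊗ₜ[R] d) = (x ⊗ₜ[R] 1) * f d :=
  Algebra.TensorProduct.lift_tmul Algebra.TensorProduct.includeLeft f (fun _ _ => Commute.all _ _) x d

theorem jmap_left {Y : Type u} [CommRing Y] [Algebra R Y] (ι : X →ₐ[R] Y) :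
    (jmap T ι).comp Algebra.TensorProduct.includeLeft =
      (Algebra.TensorProduct.includeLeft : Y →ₐ[R] Y ⊗[R] T).comp ι :=
  AlgHom.ext fun x => Algebra.TensorProduct.map_tmul _ _ x 1

theorem jmap_inR {Y : Type u} [CommRing Y] [Algebra R Y] (ι : X →ₐ[R] Y) : (jmap T ι).comp (inR T X) = inR T Y :=
  AlgHom.ext fun t => (Algebra.TensorProduct.map_tmul _ _ (1 : X) t).trans (by rw [map_one]; rfl)

/-- Changing the coefficients of an extended map. -/
theorem jmap_bar {Y : Type u} [CommRing Y] [Algebra R Y] (ι : X →ₐ[R] Y) (f' : D →ₐ[R] Y ⊗[R] T)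
    (hf : (jmap T ι).comp f = f') : (jmap T ι).comp (bar f) = (bar f').comp (jmap D ι) := by
  refine Algebra.TensorProduct.ext ?_ ?_
  · rw [AlgHom.comp_assoc, bar_left, jmap_left, AlgHom.comp_assoc, jmap_left, ← AlgHom.comp_assoc, bar_left]
  · show ((jmap T ι).comp (bar f)).comp (inR D X) = ((bar f').comp (jmap D ι)).comp (inR D X)
    rw [AlgHom.comp_assoc, bar_right, hf, AlgHom.comp_assoc, jmap_inR, bar_right]

end Bar

theorem rTensor_linearMap_eq {X T : Type u} [CommRing X] [Algebra R X] [AddCommGroup T] [Module R T] (z : R ⊗[R] T) :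
    (Algebra.linearMap R X).rTensor T z = (1 : X) ⊗ₜ[R] TensorProduct.lid R T z := by
  induction z using TensorProduct.induction_on with
  | zero => simp
  | tmul c t =>
    rw [LinearMap.rTensor_tmul, TensorProduct.lid_tmul, TensorProduct.tmul_smul, TensorProduct.smul_tmul',
      Algebra.linearMap_apply, Algebra.algebraMap_eq_smul_one]
  | add a b ha hb => simp only [map_add, ha, hb, TensorProduct.tmul_add]

theorem den_rTensor {M N T : Type u} [AddCommGroup M] [Module R M] [AddCommGroup N] [Module R N] [AddCommGroup T]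
    [Module R T] (r : R) (f : M →ₗ[R] N) (hf : ∀ y, ∃ (n : ℕ) (x : M), r ^ n • y = f x) (z : N ⊗[R] T) :
    ∃ (n : ℕ) (w : M ⊗[R] T), r ^ n • z = f.rTensor T w := by
  induction z using TensorProduct.induction_on with
  | zero => exact ⟨0, 0, by simp⟩
  | tmul y t =>
    obtain ⟨n, x, hx⟩ := hf y
    exact ⟨n, x ⊗ₜ t, by rw [TensorProduct.smul_tmul', hx, LinearMap.rTensor_tmul]⟩
  | add a b ha hb =>
    obtain ⟨n, x, hx⟩ := ha
    obtain ⟨k, y, hy⟩ := hb
    exact ⟨n + k, r ^ k • x + r ^ n • y, by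
      rw [map_add, map_smul, map_smul, ← hx, ← hy, smul_add, smul_smul, smul_smul, pow_add, mul_comm (r ^ k) (r ^ n)]⟩

theorem den_lTensor {M N T : Type u} [AddCommGroup M] [Module R M] [AddCommGroup N] [Module R N] [AddCommGroup T]
    [Module R T] (r : R) (f : M →ₗ[R] N) (hf : ∀ y, ∃ (n : ℕ) (x : M), r ^ n • y = f x) (z : T ⊗[R] N) :
    ∃ (n : ℕ) (w : T ⊗[R] M), r ^ n • z = f.lTensor T w := by
  induction z using TensorProduct.induction_on with
  | zero => exact ⟨0, 0, by simp⟩
  | tmul t y =>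
    obtain ⟨n, x, hx⟩ := hf y
    exact ⟨n, t ⊗ₜ x, by rw [← TensorProduct.tmul_smul, hx, LinearMap.lTensor_tmul]⟩
  | add a b ha hb =>
    obtain ⟨n, x, hx⟩ := ha
    obtain ⟨k, y, hy⟩ := hb
    exact ⟨n + k, r ^ k • x + r ^ n • y, by
      rw [map_add, map_smul, map_smul, ← hx, ← hy, smul_add, smul_smul, smul_smul, pow_add, mul_comm (r ^ k) (r ^ n)]⟩

section Twist

open MonObj GrpObj

variable {G : Over (Spec (CommRingCat.of R))} [GrpObj G] {O : Type u} [CommRing O] [Algebra R O]
  (θ : sp R O ≅ G)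

/-- The universal point. -/
noncomputable def upt (X : Type u) [CommRing X] [Algebra R X] : sp R (X ⊗[R] O) ⟶ G := pt θ (inR O X)

theorem m_upt {X T : Type u} [CommRing X] [Algebra R X] [CommRing T] [Algebra R T] (K : X ⊗[R] O →ₐ[R] T) :
    m K ≫ upt θ X = pt θ (K.comp (inR O X)) := m_pt θ K _

/-- A constant point. -/
noncomputable def cpt {X : Type u} [CommRing X] [Algebra R X] (T : Type u) [CommRing T] [Algebra R T]
    (g : sp R X ⟶ G) : sp R (X ⊗[R] T) ⟶ G :=
  m (Algebra.TensorProduct.includeLeft) ≫ g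

theorem m_cpt {X T T' : Type u} [CommRing X] [Algebra R X] [CommRing T] [Algebra R T] [CommRing T'] [Algebra R T']
    (g : sp R X ⟶ G) (K : X ⊗[R] T →ₐ[R] X ⊗[R] T')
    (hK : K.comp Algebra.TensorProduct.includeLeft = Algebra.TensorProduct.includeLeft) :
    m K ≫ cpt T g = cpt T' g := by
  rw [cpt, ← Category.assoc, ← m_comp, hK]
  rfl

/-- Translation by a constant point. -/
noncomputable def trl {X : Type u} [CommRing X] [Algebra R X] (g : sp R X ⟶ G) : X ⊗[R] O →ₐ[R] X ⊗[R] O :=
  bar (coord θ (upt θ X * cpt O g))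

theorem trl_left {X : Type u} [CommRing X] [Algebra R X] (g : sp R X ⟶ G) :
    (trl θ g).comp Algebra.TensorProduct.includeLeft = Algebra.TensorProduct.includeLeft := bar_left _

theorem m_trl_upt {X : Type u} [CommRing X] [Algebra R X] (g : sp R X ⟶ G) :
    m (trl θ g) ≫ upt θ X = upt θ X * cpt O g := by
  rw [m_upt, trl, bar_right, pt_coord]

theorem trl_comp_trl {X : Type u} [CommRing X] [Algebra R X] (g g' : sp R X ⟶ G) :
    (trl θ g).comp (trl θ g') = trl θ (g * g') := by
  refine Algebra.TensorProduct.ext ?_ ?_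
  · rw [AlgHom.comp_assoc, trl_left, trl_left, trl_left]
  · show ((trl θ g).comp (trl θ g')).comp (inR O X) = (trl θ (g * g')).comp (inR O X)
    refine (pt_bijective θ).1 ?_
    rw [AlgHom.comp_assoc, ← m_pt, ← m_upt, ← m_upt, m_trl_upt, m_trl_upt, MonObj.comp_mul, m_trl_upt,
      m_cpt _ _ (trl_left θ g), _root_.mul_assoc]
    congr 1
    exact (MonObj.comp_mul _ _ _).symm

theorem trl_one {X : Type u} [CommRing X] [Algebra R X] : trl θ (1 : sp R X ⟶ G) = AlgHom.id R _ := by
  refine Algebra.TensorProduct.ext ?_ ?_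
  · rw [trl_left]; rfl
  · show (trl θ (1 : sp R X ⟶ G)).comp (inR O X) = (AlgHom.id R _).comp (inR O X)
    refine (pt_bijective θ).1 ?_
    rw [← m_upt, ← m_upt, m_trl_upt, m_id, Category.id_comp, cpt, MonObj.comp_one, _root_.mul_one]

variable {r : R} {ιA : A →ₐ[R] C} {ιB : B →ₐ[R] C} (h : IsGlueData r ιA ιB) (g : sp R C ⟶ G) [Module.Flat R O]

variable (ιA ιB) in
/-- The glued algebra. -/
noncomputable def lat : Subalgebra R (A ⊗[R] O) :=
  (jmap O ιB).range.comap ((trl θ g).comp (jmap O ιA))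

include h in
theorem jmap_injective (T : Type u) [CommRing T] [Algebra R T] [Module.Flat R T] : Function.Injective (jmap T ιB) :=
  fun x y e => Module.Flat.rTensor_preserves_injective_linearMap ιB.toLinearMap h.injB
    ((jmap_eq T ιB x).symm.trans (e.trans (jmap_eq T ιB y)))

/-- The projection to the completed side. -/
noncomputable def pr2 : lat θ ιA ιB g →ₐ[R] B ⊗[R] O :=
  (AlgEquiv.ofInjective (jmap O ιB) (jmap_injective h O)).symm.toAlgHom.comp
    ((((trl θ g).comp (jmap O ιA)).comp (lat θ ιA ιB g).val).codRestrict _ fun e => e.2)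

theorem jmap_pr2 : (jmap O ιB).comp (pr2 θ h g) = ((trl θ g).comp (jmap O ιA)).comp (lat θ ιA ιB g).val :=
  AlgHom.ext fun e => congrArg Subtype.val
    ((AlgEquiv.ofInjective (jmap O ιB) (jmap_injective h O)).apply_symm_apply _)

/-- Comparison on the punctured side. -/
noncomputable def alA : A ⊗[R] lat θ ιA ιB g →ₐ[R] A ⊗[R] O := bar (lat θ ιA ιB g).val

/-- Comparison on the completed side. -/
noncomputable def alB : B ⊗[R] lat θ ιA ιB g →ₐ[R] B ⊗[R] O := bar (pr2 θ h g)

include h in
theorem exists_pow_smul_mem (x : A ⊗[R] O) : ∃ n : ℕ, r ^ n • x ∈ lat θ ιA ιB g := by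
  obtain ⟨n, w, hw⟩ := den_rTensor r ιB.toLinearMap h.denC ((trl θ g) (jmap O ιA x))
  refine ⟨n, ⟨w, ?_⟩⟩
  show jmap O ιB w = trl θ g (jmap O ιA (r ^ n • x))
  rw [map_smul, map_smul, hw, jmap_eq]

include h in
theorem smul_injective {M : Type u} [AddCommGroup M] [Module A M] [Module R M] [IsScalarTower R A M] (n : ℕ) :
    Function.Injective fun x : M => r ^ n • x := fun x y e => by
  have e' : algebraMap R A (r ^ n) • x = algebraMap R A (r ^ n) • y := by rwa [algebraMap_smul, algebraMap_smul]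
  rw [map_pow] at e'
  exact (h.unitA.pow n).smul_left_cancel.1 e'

include h in
theorem alA_bijective : Function.Bijective (alA θ (ιA := ιA) (ιB := ιB) g) := by
  refine ⟨(injective_iff_map_eq_zero _).2 fun x hx => ?_, fun y => ?_⟩
  · obtain ⟨n, w, hw⟩ := den_rTensor r (Algebra.linearMap R A) (fun a => by
      obtain ⟨n, c, hc⟩ := h.denA a
      exact ⟨n, c, hc⟩) x
    refine smul_injective h (M := A ⊗[R] lat θ ιA ιB g) n ?_
    show r ^ n • x = r ^ n • 0
    rw [smul_zero, hw]
    have e := fun w : R ⊗[R] lat θ ιA ιB g => rTensor_linearMap_eq (X := A) w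
    have h0 := congrArg (alA θ g) hw
    rw [map_smul, hx, smul_zero, e, alA, bar_tmul, ← Algebra.TensorProduct.one_def, _root_.one_mul] at h0
    rw [e, show TensorProduct.lid R _ w = 0 from Subtype.ext h0.symm, TensorProduct.tmul_zero]
  · obtain ⟨n, hn⟩ := exists_pow_smul_mem θ h g y
    obtain ⟨v, hv⟩ := (h.unitA.pow n)
    refine ⟨(↑v⁻¹ : A) ⊗ₜ ⟨_, hn⟩, ?_⟩
    rw [alA, bar_tmul]
    show _ * (r ^ n • y) = y
    rw [Algebra.smul_def, ← _root_.mul_assoc, Algebra.TensorProduct.algebraMap_apply, Algebra.TensorProduct.tmul_mul_tmul,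
      map_pow, ← hv, v.inv_mul, _root_.one_mul, ← Algebra.TensorProduct.one_def, _root_.one_mul]

/-- The product map to the overlap. -/
noncomputable def mulMap : B ⊗[R] (A ⊗[R] O) →ₐ[R] C ⊗[R] O :=
  Algebra.TensorProduct.lift ((Algebra.TensorProduct.includeLeft : C →ₐ[R] C ⊗[R] O).comp ιB) (jmap O ιA)
    fun _ _ => Commute.all _ _

include h in
theorem mulMap_injective : Function.Injective (mulMap (ιA := ιA) (ιB := ιB) (O := O)) := by
  refine (injective_iff_map_eq_zero _).2 fun w hw => ?_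
  obtain ⟨n, v, hv⟩ := den_lTensor (T := B) r (inR O A).toLinearMap (fun y => by
    obtain ⟨n, z, hz⟩ := den_rTensor r (Algebra.linearMap R A) (fun a => by
      obtain ⟨n, c, hc⟩ := h.denA a
      exact ⟨n, c, hc⟩) y
    exact ⟨n, TensorProduct.lid R O z, hz.trans (rTensor_linearMap_eq z)⟩) w
  have e : ∀ v : B ⊗[R] O, mulMap (ιA := ιA) (ιB := ιB) (O := O) ((inR O A).toLinearMap.lTensor B v) = jmap O ιB v := fun v => by
    induction v using TensorProduct.induction_on with
    | zero => simp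
    | tmul b o => simp [mulMap, jmap]
    | add a b ha hb => simp only [map_add, ha, hb]
  have h0 := congrArg (mulMap (ιA := ιA) (ιB := ιB) (O := O)) hv
  rw [map_smul, hw, smul_zero, e] at h0
  rw [show v = 0 from jmap_injective h O (h0.symm.trans (map_zero _).symm), map_zero] at hv
  have hu : IsUnit (algebraMap R (B ⊗[R] (A ⊗[R] O)) r) := by
    have h1 := h.unitA.map ((Algebra.TensorProduct.includeRight : A ⊗[R] O →ₐ[R] B ⊗[R] (A ⊗[R] O)).comp
      (Algebra.TensorProduct.includeLeft : A →ₐ[R] A ⊗[R] O))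
    rwa [AlgHom.commutes] at h1
  have hv' : algebraMap R (B ⊗[R] (A ⊗[R] O)) r ^ n * w = 0 := by
    rw [← map_pow]
    exact (Algebra.smul_def _ _).symm.trans hv
  exact (hu.pow n).mul_right_eq_zero.1 hv'

include h in
theorem alB_bijective : Function.Bijective (alB θ h g) := by
  have hcomp : (jmap O ιB).comp (alB θ h g) =
      ((trl θ g).comp (mulMap (ιA := ιA) (ιB := ιB))).comp (Algebra.TensorProduct.map (AlgHom.id R B) (lat θ ιA ιB g).val) := by
    refine Algebra.TensorProduct.ext ?_ ?_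
    · rw [AlgHom.comp_assoc, alB, bar_left, jmap_left, AlgHom.comp_assoc, AlgHom.comp_assoc,
        Algebra.TensorProduct.map_comp_includeLeft, AlgHom.comp_id, mulMap,
        Algebra.TensorProduct.lift_comp_includeLeft, ← AlgHom.comp_assoc, trl_left]
    · show ((jmap O ιB).comp (alB θ h g)).comp (inR _ B) =
        (((trl θ g).comp (mulMap (ιA := ιA) (ιB := ιB))).comp (Algebra.TensorProduct.map (AlgHom.id R B) (lat θ ιA ιB g).val)).comp (inR _ B)
      rw [AlgHom.comp_assoc, alB, bar_right, jmap_pr2]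
      refine AlgHom.ext fun e => ?_
      simp [mulMap, ← Algebra.TensorProduct.one_def]
  have hinv : (trl θ g⁻¹).comp (trl θ g) = AlgHom.id R _ := by rw [trl_comp_trl, inv_mul_cancel, trl_one]
  refine ⟨(injective_iff_map_eq_zero _).2 fun x hx => ?_, fun v => ?_⟩
  · have h1 := congr($hcomp x)
    rw [AlgHom.comp_apply, hx, map_zero, AlgHom.comp_apply, AlgHom.comp_apply] at h1
    have h2 := congrArg (trl θ g⁻¹) h1
    rw [map_zero, ← AlgHom.comp_apply, hinv, AlgHom.id_apply] at h2
    have h3 := mulMap_injective h (h2.symm.trans (map_zero _).symm)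
    haveI := h.flatB
    refine Module.Flat.lTensor_preserves_injective_linearMap (M := B) (lat θ ιA ιB g).val.toLinearMap
      Subtype.val_injective (Eq.trans ?_ (h3.trans (map_zero _).symm))
    clear h1 h2 h3 hx
    induction x using TensorProduct.induction_on with
    | zero => simp
    | tmul b e => simp
    | add a b ha hb => simp only [map_add, ha, hb]
  · have key : ∀ z : C ⊗[R] O, ∃ (a : A ⊗[R] O) (y : B ⊗[R] lat θ ιA ιB g),
        z = jmap O ιA a + trl θ g⁻¹ (jmap O ιB (alB θ h g y)) := by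
      intro z
      induction z using TensorProduct.induction_on with
      | zero => exact ⟨0, 0, by simp⟩
      | tmul c o =>
        obtain ⟨n, hn⟩ := exists_pow_smul_mem θ h g ((1 : A) ⊗ₜ[R] o)
        obtain ⟨a, b, hc⟩ := h.dec c n
        refine ⟨a ⊗ₜ[R] o, b ⊗ₜ[R] ⟨_, hn⟩, ?_⟩
        rw [← AlgHom.comp_apply (jmap O ιB) (alB θ h g), hcomp, AlgHom.comp_apply, AlgHom.comp_apply,
          ← AlgHom.comp_apply (trl θ g⁻¹) (trl θ g), hinv, AlgHom.id_apply, hc, TensorProduct.add_tmul]
        congr 1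
        show _ = mulMap (ιA := ιA) (ιB := ιB) (b ⊗ₜ[R] (r ^ n • ((1 : A) ⊗ₜ[R] o)))
        rw [TensorProduct.tmul_smul, map_smul]
        simp [mulMap, jmap, TensorProduct.smul_tmul']
      | add z w hz hw =>
        obtain ⟨a, y, rfl⟩ := hz
        obtain ⟨a', y', rfl⟩ := hw
        exact ⟨a + a', y + y', by simp only [map_add]; abel⟩
    obtain ⟨a, y, hay⟩ := key (trl θ g⁻¹ (jmap O ιB v))
    have hinv' : (trl θ g).comp (trl θ g⁻¹) = AlgHom.id R _ := by rw [trl_comp_trl, mul_inv_cancel, trl_one]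
    have h1 := congrArg (trl θ g) hay
    rw [map_add, ← AlgHom.comp_apply, hinv', AlgHom.id_apply, ← AlgHom.comp_apply (trl θ g) (trl θ g⁻¹), hinv',
      AlgHom.id_apply] at h1
    have hmem : a ∈ lat θ ιA ιB g := ⟨v - alB θ h g y, by
      show jmap O ιB (v - alB θ h g y) = trl θ g (jmap O ιA a)
      rw [map_sub, h1]
      abel⟩
    refine ⟨(1 : B) ⊗ₜ[R] ⟨a, hmem⟩ + y, ?_⟩
    rw [map_add]
    refine jmap_injective h O ?_
    rw [map_add, h1]
    congr 1
    rw [alB, bar_tmul, ← Algebra.TensorProduct.one_def, _root_.one_mul]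
    exact congr($(jmap_pr2 θ h g) ⟨a, hmem⟩)

end Twist

end Groth.Agent.H02CA.PtGlue
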