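import Groth.Agent.H02CA.PtGlue.Act
import Groth.Agent.H02CA.PtGlue.Data

/-!
# The glued torsor is an fppf torsor
-/

set_option autoImplicit false
set_option linter.style.haveILetI false
universe u

open CategoryTheory MonoidalCategory CartesianMonoidalCategory MonObj GrpObj AlgebraicGeometry TensorProduct

namespace Groth.Agent.H02CA.PtGlue

variable {R : Type u} [CommRing R]

theorem exists_finset_baseChange {X E : Type u} [CommRing X] [Algebra R X] [CommRing E] [Algebra R E]
    (hfg : Algebra.FiniteType X (X ⊗[R] E)) :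
    ∃ s : Finset E, ∀ S : Subalgebra R E, ↑s ⊆ (S : Set E) → Function.Surjective
      (Algebra.TensorProduct.map (AlgHom.id X X) S.val) := by
  classical
  obtain ⟨t, ht⟩ := hfg.out
  have h0 : ∀ z : X ⊗[R] E, ∃ s : Finset E, z ∈ Algebra.adjoin X ((fun e : E => (1 : X) ⊗ₜ[R] e) '' ↑s) := by
    intro z
    induction z using TensorProduct.induction_on with
    | zero => exact ⟨∅, zero_mem _⟩
    | tmul a e =>
      refine ⟨{e}, ?_⟩
      rw [show a ⊗ₜ[R] e = a • ((1 : X) ⊗ₜ[R] e) by rw [TensorProduct.smul_tmul', smul_eq_mul, _root_.mul_one]]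
      exact Subalgebra.smul_mem _ (Algebra.subset_adjoin (Set.mem_image_of_mem _ (by simp))) a
    | add a b ha hb =>
      obtain ⟨s₁, hs₁⟩ := ha
      obtain ⟨s₂, hs₂⟩ := hb
      exact ⟨s₁ ∪ s₂, add_mem (Algebra.adjoin_mono (Set.image_mono (by simp)) hs₁)
        (Algebra.adjoin_mono (Set.image_mono (by simp)) hs₂)⟩
  choose s hs using h0
  refine ⟨t.biUnion s, fun S hS => ?_⟩
  rw [← AlgHom.range_eq_top, ← top_le_iff, ← ht, Algebra.adjoin_le_iff]
  intro z hz
  refine (Algebra.adjoin_le_iff.2 ?_) (hs z)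
  rintro _ ⟨e, he, rfl⟩
  exact ⟨(1 : X) ⊗ₜ[R] ⟨e, hS (by simp only [Finset.coe_biUnion, Set.mem_iUnion]; exact ⟨z, hz, he⟩)⟩,
    Algebra.TensorProduct.map_tmul _ _ _ _⟩

variable {A B C : Type u} [CommRing A] [Algebra R A] [CommRing B] [Algebra R B] [CommRing C] [Algebra R C]
  {G : Over (Spec (CommRingCat.of R))} [GrpObj G] {O : Type u} [CommRing O] [Algebra R O]
  {θ : sp R O ≅ G} {r : R} {ιA : A →ₐ[R] C} {ιB : B →ₐ[R] C}

theorem IsGlueData.finiteType (h : IsGlueData r ιA ιB) {E : Type u} [CommRing E] [Algebra R E]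
    (hA : Algebra.FiniteType A (A ⊗[R] E)) (hB : Algebra.FiniteType B (B ⊗[R] E)) : Algebra.FiniteType R E := by
  classical
  obtain ⟨sA, hsA⟩ := exists_finset_baseChange hA
  obtain ⟨sB, hsB⟩ := exists_finset_baseChange hB
  refine ⟨⟨sA ∪ sB, ?_⟩⟩
  set S := Algebra.adjoin R (↑(sA ∪ sB) : Set E) with hS
  refine Algebra.eq_top_iff.2 fun e => ?_
  refine (Submodule.Quotient.mk_eq_zero (Subalgebra.toSubmodule S)).1 (h.joint_injective _ _ ?_ ?_)
  · obtain ⟨y, hy⟩ := hsA S (fun x hx => Algebra.subset_adjoin (by simp [hx])) ((1 : A) ⊗ₜ[R] e)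
    refine (congrArg ((Subalgebra.toSubmodule S).mkQ.lTensor A) hy.symm).trans ?_
    clear hy
    induction y using TensorProduct.induction_on with
    | zero => simp
    | tmul a x =>
      rw [Algebra.TensorProduct.map_tmul, LinearMap.lTensor_tmul]
      exact (congrArg (a ⊗ₜ[R] ·) ((Submodule.Quotient.mk_eq_zero (Subalgebra.toSubmodule S)).2 x.2)).trans
        (TensorProduct.tmul_zero _ _)
    | add a b ha hb => rw [map_add, map_add, ha, hb, add_zero]
  · obtain ⟨y, hy⟩ := hsB S (fun x hx => Algebra.subset_adjoin (by simp [hx])) ((1 : B) ⊗ₜ[R] e)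
    refine (congrArg ((Subalgebra.toSubmodule S).mkQ.lTensor B) hy.symm).trans ?_
    clear hy
    induction y using TensorProduct.induction_on with
    | zero => simp
    | tmul a x =>
      rw [Algebra.TensorProduct.map_tmul, LinearMap.lTensor_tmul]
      exact (congrArg (a ⊗ₜ[R] ·) ((Submodule.Quotient.mk_eq_zero (Subalgebra.toSubmodule S)).2 x.2)).trans
        (TensorProduct.tmul_zero _ _)
    | add a b ha hb => rw [map_add, map_add, ha, hb, add_zero]

/-- Evaluate the trivial side at the unit. -/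
noncomputable def sideSection (θ : sp R O ≅ G) (X : Type u) [CommRing X] [Algebra R X] : X ⊗[R] O →ₐ[R] X :=
  Algebra.TensorProduct.lift (AlgHom.id R X) (coord θ (1 : sp R X ⟶ G)) fun _ _ => Commute.all _ _

variable (h : IsGlueData r ιA ιB) {g : sp R C ⟶ G} [Module.Flat R O]
  {E : Type u} [CommRing E] [Algebra R E] (L : LatData θ (ιA := ιA) (ιB := ιB) g E)

/-- `X ⊗ O` to `X ⊗ E`, over the coefficients. -/
noncomputable def sideEquiv {X : Type u} [CommRing X] [Algebra R X] (p : E →ₐ[R] X ⊗[R] O)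
    (hp : Function.Bijective (bar p)) : X ⊗[R] O ≃ₐ[X] X ⊗[R] E :=
  { (AlgEquiv.ofBijective (bar p) hp).symm.toRingEquiv with
    commutes' := fun x => (AlgEquiv.ofBijective (bar p) hp).symm_apply_eq.2 congr($(bar_left p) x).symm }

include h L in
theorem LatData.finiteType [Algebra.FiniteType R O] : Algebra.FiniteType R E :=
  h.finiteType
    (Algebra.FiniteType.equiv (inferInstance : Algebra.FiniteType A (A ⊗[R] O)) (sideEquiv L.p₁ L.bijA))
    (Algebra.FiniteType.equiv (inferInstance : Algebra.FiniteType B (B ⊗[R] O)) (sideEquiv L.p₂ L.bijB))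

include h L in
theorem LatData.surjective : Function.Surjective (PrimeSpectrum.comap (algebraMap R E)) := by
  intro p
  haveI := h.faithfullyFlat
  obtain ⟨q, hq⟩ := PrimeSpectrum.comap_surjective_of_faithfullyFlat (A := R) (B := A × B) p
  let φ : E →ₐ[R] A × B := AlgHom.prod ((sideSection θ A).comp L.p₁) ((sideSection θ B).comp L.p₂)
  refine ⟨PrimeSpectrum.comap φ.toRingHom q, ?_⟩
  rw [← PrimeSpectrum.comap_comp_apply, show φ.toRingHom.comp (algebraMap R E) = algebraMap R (A × B) from φ.comp_algebraMap]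
  exact hq

include h L in
theorem LatData.isTorsorFor [IsNoetherianRing R] [Algebra.FiniteType R O] [Module.Flat R E] :
    NonAbH1.IsTorsorFor Scheme.fppfPrecoverage (action h L) := by
  haveI := L.finiteType h
  have hflat : Flat (sp R E).hom := by
    show Flat (Spec.map (CommRingCat.ofHom (algebraMap R E)))
    rw [HasRingHomProperty.Spec_iff (P := @Flat)]
    exact RingHom.flat_algebraMap_iff.2 inferInstance
  have hfp : LocallyOfFinitePresentation (sp R E).hom := by
    show LocallyOfFinitePresentation (Spec.map (CommRingCat.ofHom (algebraMap R E)))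
    rw [HasRingHomProperty.Spec_iff (P := @LocallyOfFinitePresentation)]
    exact RingHom.finitePresentation_algebraMap.2 (Algebra.FinitePresentation.of_finiteType.1 inferInstance)
  have hsurj : Surjective (sp R E).hom := ⟨L.surjective h⟩
  refine ⟨isPseudoTorsorSch_action h L, Presieve.singleton (sp R E).hom, ?_, ?_⟩
  · rw [Scheme.fppfPrecoverage]
    exact (Scheme.singleton_mem_precoverage_iff _ _).2 ⟨hsurj.surj, hflat, hfp⟩
  · rintro S' f ⟨⟩
    exact ⟨𝟙 _, Category.id_comp _⟩

include h L in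
/-- A section of the glued torsor factorises the gluing point. -/
theorem LatData.exists_factor (x : E →ₐ[R] R) :
    ∃ (gA : sp R A ⟶ G) (gB : sp R B ⟶ G), g = (m ιB ≫ gB) * (m ιA ≫ gA) := by
  let rid : ∀ (X : Type u) [CommRing X] [Algebra R X], X ⊗[R] R →ₐ[R] X := fun X _ _ =>
    Algebra.TensorProduct.lift (AlgHom.id R X) (Algebra.ofId R X) fun _ _ => Commute.all _ _
  have hrel := congrArg (fun z => m (rid C) ≫ z) (L.rel_pt x)
  have hnat : ∀ {X : Type u} [CommRing X] [Algebra R X] (f : X →ₐ[R] C),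
      (rid C).comp (jmap R f) = f.comp (rid X) := fun {X} _ _ f => by
    refine Algebra.TensorProduct.ext ?_ (Subsingleton.elim _ _)
    exact AlgHom.ext fun a => by simp [rid, jmap]
  have hl : (rid C).comp Algebra.TensorProduct.includeLeft = AlgHom.id R C := AlgHom.ext fun a => by simp [rid]
  simp only [MonObj.comp_mul] at hrel
  rw [← Category.assoc, ← m_comp, hnat, m_comp, ← Category.assoc (m (rid C)), ← m_comp (rid C), hnat, m_comp, cpt,
    ← Category.assoc (m (rid C)), ← m_comp (rid C), hl, m_id, Category.id_comp, Category.assoc, Category.assoc] at hrel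
  refine ⟨m (rid A) ≫ L.ptA x, (m (rid B) ≫ L.ptB x)⁻¹, ?_⟩
  rw [GrpObj.comp_inv, hrel, inv_mul_cancel_left]

end Groth.Agent.H02CA.PtGlue
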