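import Groth.Agent.H02CA.PtGlue.Lattice
import Groth.Prelude.Def_NonAbH2

/-!
# The torsor glued from two trivial torsors
-/

set_option autoImplicit false
set_option linter.style.haveILetI false
universe u

open CategoryTheory MonoidalCategory CartesianMonoidalCategory MonObj GrpObj AlgebraicGeometry TensorProduct

namespace Groth.Agent.H02CA.PtGlue

variable {R A B C : Type u} [CommRing R] [CommRing A] [Algebra R A] [CommRing B] [Algebra R B]
  [CommRing C] [Algebra R C]

theorem bar_inR_comp {X D T T' : Type u} [CommRing X] [Algebra R X] [CommRing D] [Algebra R D] [CommRing T]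
    [Algebra R T] [CommRing T'] [Algebra R T'] (f : T →ₐ[R] T') (x : D →ₐ[R] T) :
    (bar ((inR T' X).comp f)).comp (bar ((inR T X).comp x)) = bar ((inR T' X).comp (f.comp x)) := by
  refine Algebra.TensorProduct.ext ?_ ?_
  · rw [AlgHom.comp_assoc, bar_left, bar_left, bar_left]
  · show ((bar _).comp (bar _)).comp (inR D X) = (bar _).comp (inR D X)
    rw [AlgHom.comp_assoc, bar_right, bar_right, ← AlgHom.comp_assoc, bar_right, AlgHom.comp_assoc]

variable {G : Over (Spec (CommRingCat.of R))} [GrpObj G] {O : Type u} [CommRing O] [Algebra R O]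
  (θ : sp R O ≅ G) {r : R} {ιA : A →ₐ[R] C} {ιB : B →ₐ[R] C} (h : IsGlueData r ιA ιB) (g : sp R C ⟶ G)
  [Module.Flat R O]

/-- An algebra glued from the coordinate ring on the two sides along a translation. -/
structure LatData (E : Type u) [CommRing E] [Algebra R E] where
  p₁ : E →ₐ[R] A ⊗[R] O
  p₂ : E →ₐ[R] B ⊗[R] O
  rel : (jmap O ιB).comp p₂ = ((trl θ g).comp (jmap O ιA)).comp p₁
  bijA : Function.Bijective (bar p₁)
  bijB : Function.Bijective (bar p₂)

include h in
/-- The glued algebra exists. -/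
theorem exists_latData : ∃ (E : Type u) (_ : CommRing E) (_ : Algebra R E),
    Nonempty (LatData θ (ιA := ιA) (ιB := ιB) g E) :=
  ⟨lat θ ιA ιB g, inferInstance, inferInstance,
    ⟨⟨(lat θ ιA ιB g).val, pr2 θ h g, jmap_pr2 θ h g, alA_bijective θ h g, alB_bijective θ h g⟩⟩⟩

variable {θ g} {E : Type u} [CommRing E] [Algebra R E] (L : LatData θ (ιA := ιA) (ιB := ιB) g E)

include h L in
theorem LatData.flat : Module.Flat R E := by
  haveI := h.flatA
  haveI := h.flatB
  refine Module.Flat.iff_lTensor_preserves_injective_linearMap.2 fun N N' _ _ _ _ f hf => ?_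
  have side : ∀ (X : Type u) [CommRing X] [Algebra R X] (e : X ⊗[R] E ≃ₗ[R] X ⊗[R] O) [Module.Flat R X]
      (z : E ⊗[R] N), f.lTensor E z = 0 → (1 : X) ⊗ₜ[R] z = 0 := by
    intro X _ _ e _ z hz
    haveI : Module.Flat R (X ⊗[R] E) := Module.Flat.of_linearEquiv e
    have h1 := Module.Flat.lTensor_preserves_injective_linearMap (M := X ⊗[R] E) f hf
    refine (TensorProduct.assoc R X E N).symm.injective (h1 ?_)
    rw [map_zero, map_zero, LinearMap.lTensor_tensor]
    simp [hz]
  refine (injective_iff_map_eq_zero _).2 fun z hz => h.joint_injective _ z ?_ ?_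
  · exact side A (AlgEquiv.ofBijective _ L.bijA).toLinearEquiv z hz
  · exact side B (AlgEquiv.ofBijective _ L.bijB).toLinearEquiv z hz

/-- The tautological point on the punctured side. -/
noncomputable def LatData.eA : sp R (A ⊗[R] E) ⟶ G :=
  m (AlgEquiv.ofBijective _ L.bijA).symm.toAlgHom ≫ upt θ A

/-- The tautological point on the completed side. -/
noncomputable def LatData.eB : sp R (B ⊗[R] E) ⟶ G :=
  m (AlgEquiv.ofBijective _ L.bijB).symm.toAlgHom ≫ upt θ B

theorem LatData.m_alA_eA : m (bar L.p₁) ≫ L.eA = upt θ A := by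
  rw [eA, ← Category.assoc, ← m_comp]
  refine Eq.trans ?_ (Category.id_comp _)
  rw [← m_id]
  congr 2
  exact AlgHom.ext fun x => (AlgEquiv.ofBijective _ L.bijA).apply_symm_apply x

theorem LatData.m_alB_eB : m (bar L.p₂) ≫ L.eB = upt θ B := by
  rw [eB, ← Category.assoc, ← m_comp]
  refine Eq.trans ?_ (Category.id_comp _)
  rw [← m_id]
  congr 2
  exact AlgHom.ext fun x => (AlgEquiv.ofBijective _ L.bijB).apply_symm_apply x

theorem LatData.bar_symm_alA :
    bar ((AlgEquiv.ofBijective _ L.bijA).symm.toAlgHom.comp (inR O A)) =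
      (AlgEquiv.ofBijective _ L.bijA).symm.toAlgHom := by
  refine Algebra.TensorProduct.ext ?_ (bar_right _)
  rw [bar_left]
  refine AlgHom.ext fun a => ((AlgEquiv.ofBijective _ L.bijA).symm_apply_eq.2 ?_).symm
  exact congr($(bar_left L.p₁) a).symm

/-- The two tautological points differ by the given one on the overlap. -/
theorem LatData.rel_taut : m (jmap E ιA) ≫ L.eA = (m (jmap E ιB) ≫ L.eB) * cpt E g := by
  let ζA := bar ((jmap O ιA).comp L.p₁)
  let ζB := bar ((jmap O ιB).comp L.p₂)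
  let s := (AlgEquiv.ofBijective _ L.bijA).symm.toAlgHom
  let ζ' := bar ((jmap E ιA).comp (s.comp (inR O A)))
  have hA : (jmap O ιA).comp (bar L.p₁) = ζA.comp (jmap E ιA) := jmap_bar _ ιA _ rfl
  have hB : (jmap O ιB).comp (bar L.p₂) = ζB.comp (jmap E ιB) := jmap_bar _ ιB _ rfl
  have hζ : ζ'.comp ζA = AlgHom.id R _ := by
    refine Algebra.TensorProduct.ext ?_ ?_
    · rw [AlgHom.comp_assoc, bar_left, bar_left]; rfl
    · show (ζ'.comp ζA).comp (inR E C) = (AlgHom.id R _).comp (inR E C)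
      rw [AlgHom.comp_assoc, bar_right, ← AlgHom.comp_assoc, ← jmap_bar _ ιA _ rfl, L.bar_symm_alA, AlgHom.id_comp,
        ← jmap_inR (T := E) ιA]
      refine AlgHom.ext fun e => ?_
      show jmap E ιA ((AlgEquiv.ofBijective _ L.bijA).symm (L.p₁ e)) =
        jmap E ιA (inR E A e)
      refine congrArg (jmap E ιA) ((AlgEquiv.ofBijective _ L.bijA).symm_apply_eq.2 ?_)
      exact congr($(bar_right L.p₁) e).symm
  have hζB : ζB = (trl θ g).comp ζA := by
    refine Algebra.TensorProduct.ext ?_ ?_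
    · rw [AlgHom.comp_assoc, bar_left, bar_left, trl_left]
    · show ζB.comp (inR E C) = ((trl θ g).comp ζA).comp (inR E C)
      rw [AlgHom.comp_assoc, bar_right, bar_right, L.rel, AlgHom.comp_assoc]
  have hζA : ζA = (trl θ g⁻¹).comp ζB := by
    rw [hζB, ← AlgHom.comp_assoc, trl_comp_trl, inv_mul_cancel, trl_one, AlgHom.id_comp]
  have hid : m ζ' ≫ m ζA = 𝟙 _ := by rw [← m_comp, hζ, m_id]
  have hcanc : ∀ x y : sp R (C ⊗[R] E) ⟶ G, m ζA ≫ x = m ζA ≫ y → x = y := fun x y e => by
    have e' := congrArg (fun z => m ζ' ≫ z) e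
    simp only [← Category.assoc, hid, Category.id_comp] at e'
    exact e'
  have huA : m (jmap O ιA) ≫ upt θ A = upt θ C := by rw [m_upt, jmap_inR]; rfl
  have huB : m (jmap O ιB) ≫ upt θ B = upt θ C := by rw [m_upt, jmap_inR]; rfl
  apply hcanc
  rw [MonObj.comp_mul, m_cpt _ _ (bar_left _), ← Category.assoc, ← m_comp, ← hA, m_comp, Category.assoc, L.m_alA_eA,
    huA]
  conv_rhs => rw [hζA]
  rw [m_comp, Category.assoc, ← Category.assoc (m ζB), ← m_comp ζB, ← hB, m_comp, Category.assoc, L.m_alB_eB, huB,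
    m_trl_upt, _root_.mul_assoc]
  rw [show cpt O g⁻¹ = (cpt O g)⁻¹ from GrpObj.comp_inv _ _, inv_mul_cancel, _root_.mul_one]

variable {T : Type u} [CommRing T] [Algebra R T]

/-- The punctured component of a point of the glued scheme. -/
noncomputable def LatData.ptA (x : E →ₐ[R] T) : sp R (A ⊗[R] T) ⟶ G := m (bar ((inR T A).comp x)) ≫ L.eA

/-- The completed component of a point of the glued scheme. -/
noncomputable def LatData.ptB (x : E →ₐ[R] T) : sp R (B ⊗[R] T) ⟶ G := m (bar ((inR T B).comp x)) ≫ L.eB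

theorem LatData.rel_pt (x : E →ₐ[R] T) :
    m (jmap T ιA) ≫ L.ptA x = (m (jmap T ιB) ≫ L.ptB x) * cpt T g := by
  have hx : ∀ {X : Type u} [CommRing X] [Algebra R X] (ψ : X →ₐ[R] C), (jmap T ψ).comp (bar ((inR T X).comp x)) =
      (bar ((inR T C).comp x)).comp (jmap E ψ) := fun ψ =>
    jmap_bar _ ψ _ (by rw [← AlgHom.comp_assoc, jmap_inR])
  rw [ptA, ptB, ← Category.assoc, ← m_comp, hx, m_comp, ← Category.assoc (m (jmap T ιB)), ← m_comp (jmap T ιB), hx, m_comp,
    Category.assoc, L.rel_taut, MonObj.comp_mul, Category.assoc, m_cpt _ _ (bar_left _)]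

theorem LatData.ptA_nat {T' : Type u} [CommRing T'] [Algebra R T'] (f : T →ₐ[R] T') (x : E →ₐ[R] T) :
    L.ptA (f.comp x) = m (bar ((inR T' A).comp f)) ≫ L.ptA x := by
  rw [ptA, ptA, ← Category.assoc, ← m_comp, bar_inR_comp]

theorem LatData.ptB_nat {T' : Type u} [CommRing T'] [Algebra R T'] (f : T →ₐ[R] T') (x : E →ₐ[R] T) :
    L.ptB (f.comp x) = m (bar ((inR T' B).comp f)) ≫ L.ptB x := by
  rw [ptB, ptB, ← Category.assoc, ← m_comp, bar_inR_comp]

include h in
theorem LatData.pt_ext {x y : E →ₐ[R] T} (hA : L.ptA x = L.ptA y) (hB : L.ptB x = L.ptB y) : x = y := by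
  have key : ∀ {X : Type u} [CommRing X] [Algebra R X] (e : X ⊗[R] E ≃ₐ[R] X ⊗[R] O)
      (he : (e.symm.toAlgHom).comp Algebra.TensorProduct.includeLeft = Algebra.TensorProduct.includeLeft)
      (_ : m (bar ((inR T X).comp x)) ≫ m e.symm.toAlgHom ≫ upt θ X =
        m (bar ((inR T X).comp y)) ≫ m e.symm.toAlgHom ≫ upt θ X), (inR T X).comp x = (inR T X).comp y := by
    intro X _ _ e he hxy
    rw [← Category.assoc, ← m_comp, m_upt, ← Category.assoc, ← m_comp, m_upt] at hxy
    have h1 : (bar ((inR T X).comp x)).comp e.symm.toAlgHom = (bar ((inR T X).comp y)).comp e.symm.toAlgHom := by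
      refine Algebra.TensorProduct.ext ?_ ((pt_bijective θ).1 hxy)
      rw [AlgHom.comp_assoc, he, bar_left, AlgHom.comp_assoc, he, bar_left]
    refine AlgHom.ext fun z => ?_
    have h2 := congr($h1 (e ((1 : X) ⊗ₜ[R] z)))
    rw [AlgHom.comp_apply, AlgHom.comp_apply] at h2
    rw [show e.symm.toAlgHom (e ((1 : X) ⊗ₜ[R] z)) = (1 : X) ⊗ₜ[R] z from e.symm_apply_apply _] at h2
    exact congr($(bar_right ((inR T X).comp x)) z).symm.trans (h2.trans congr($(bar_right ((inR T X).comp y)) z))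
  refine IsGlueData.hom_ext T h (key (AlgEquiv.ofBijective _ L.bijA) ?_ hA)
    (key (AlgEquiv.ofBijective _ L.bijB) ?_ hB)
  · exact AlgHom.ext fun a => (AlgEquiv.ofBijective _ L.bijA).symm_apply_eq.2
      congr($(bar_left L.p₁) a).symm
  · exact AlgHom.ext fun b => (AlgEquiv.ofBijective _ L.bijB).symm_apply_eq.2
      congr($(bar_left L.p₂) b).symm

include h in
theorem LatData.exists_pt [Module.Flat R T] (xA : sp R (A ⊗[R] T) ⟶ G) (xB : sp R (B ⊗[R] T) ⟶ G)
    (hrel : m (jmap T ιA) ≫ xA = (m (jmap T ιB) ≫ xB) * cpt T g) :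
    ∃ x : E →ₐ[R] T, L.ptA x = xA ∧ L.ptB x = xB := by
  have hcomp : (bar ((jmap T ιB).comp (coord θ xB))).comp (trl θ g) = bar ((jmap T ιA).comp (coord θ xA)) := by
    refine Algebra.TensorProduct.ext ?_ ?_
    · rw [AlgHom.comp_assoc, trl_left, bar_left, bar_left]
    · show ((bar _).comp (trl θ g)).comp (inR O C) = (bar _).comp (inR O C)
      refine (pt_bijective θ).1 ?_
      rw [bar_right, AlgHom.comp_assoc, ← m_pt, ← m_upt, m_trl_upt, MonObj.comp_mul, m_upt, bar_right,
        m_cpt _ _ (bar_left _), ← m_pt θ (jmap T ιB), ← m_pt θ (jmap T ιA), pt_coord, pt_coord, hrel]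
  obtain ⟨x, hxA, hxB⟩ := h.glueHom T ((bar (coord θ xA)).comp L.p₁)
    ((bar (coord θ xB)).comp L.p₂) (by
      rw [← AlgHom.comp_assoc, jmap_bar _ ιA _ rfl, ← AlgHom.comp_assoc, jmap_bar _ ιB _ rfl, ← hcomp,
        AlgHom.comp_assoc, AlgHom.comp_assoc, AlgHom.comp_assoc, L.rel, ← AlgHom.comp_assoc (trl θ g)])
  refine ⟨x, ?_, ?_⟩
  · have e : bar ((inR T A).comp x) = (bar (coord θ xA)).comp (bar L.p₁) := by
      refine Algebra.TensorProduct.ext ?_ ?_
      · rw [bar_left, AlgHom.comp_assoc, bar_left, bar_left]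
      · show (bar _).comp (inR E A) = ((bar _).comp (bar L.p₁)).comp (inR E A)
        rw [bar_right, AlgHom.comp_assoc, bar_right, hxA]
    rw [ptA, e, m_comp, Category.assoc, L.m_alA_eA, m_upt, bar_right, pt_coord]
  · have e : bar ((inR T B).comp x) = (bar (coord θ xB)).comp (bar L.p₂) := by
      refine Algebra.TensorProduct.ext ?_ ?_
      · rw [bar_left, AlgHom.comp_assoc, bar_left, bar_left]
      · show (bar _).comp (inR E B) = ((bar _).comp (bar L.p₂)).comp (inR E B)
        rw [bar_right, AlgHom.comp_assoc, bar_right, hxB]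
    rw [ptB, e, m_comp, Category.assoc, L.m_alB_eB, m_upt, bar_right, pt_coord]

end Groth.Agent.H02CA.PtGlue
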